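import Groth.Agent.L18.CIProjConn
import Groth.Agent.L18.CIProjStep
import Groth.Agent.L21.RR.Finite
import Groth.Agent.L15.PnHodge.Vanish

/-!
# Line bundles on complete intersections: sections in degrees `≤ 0`
-/

set_option autoImplicit false
set_option linter.style.haveILetI false
set_option linter.unusedSectionVars false
set_option backward.isDefEq.respectTransparency false
set_option backward.isDefEq.respectTransparency.types false

universe u

open CategoryTheory CategoryTheory.Limits AlgebraicGeometry TopologicalSpace Opposite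

noncomputable section

namespace Groth.L13.HdgCI

open Groth.L18.CIProj Groth.L18.CIProjRing Groth.L22.ProjDict
open Groth.L21.RR (e0 e0_smul)

variable {k : Type u} [Field k] {n r : ℕ} {a : Fin r → ℕ}

/-- At most `n` hypersurfaces of projective `n`-space meet. -/
theorem nonempty_ci (hr : r ≤ n) (ha : ∀ j, 1 ≤ a j) (G : ∀ j, LefPen.Form n k (a j)) :
    Nonempty (LefPen.ciIdeal G).subscheme := by
  obtain ⟨h⟩ := exists_homeo ha G
  have hle := span_le_vertex (isHomogeneous_pols G) ha
  haveI : (vertex k n).IsPrime := vertex_isMaximal.isPrime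
  obtain ⟨Q, hQ, -⟩ := Ideal.exists_minimalPrimes_le hle
  haveI := hQ.1.1
  have hQh : Q.IsHomogeneous (CohB1.polyGrading n k) :=
    isHomogeneous_of_mem_minimalPrimes (span_isHomogeneous (isHomogeneous_pols G)) hQ
  have hv : Q ≠ vertex k n := fun he => by
    have h1 := le_dim_minimal _ hQ
    rw [he, dim_vertex, zero_add] at h1
    have : n + 1 ≤ r := by exact_mod_cast h1
    omega
  have h1 := dim_lt (lt_of_le_of_ne (le_vertex hQh hQ.1.1.ne_top) hv)
  rw [dim_vertex, zero_add] at h1
  exact ⟨h.symm ⟨mkPt Q hQ.1.1 hQh h1, hQ.1.2⟩⟩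

/-- Negative line bundles have no sections. -/
theorem subsingleton_h0_neg (hr : r + 1 ≤ n) (ha : ∀ j, 1 ≤ a j) (G : ∀ j, LefPen.Form n k (a j))
    (hci : IsCI (pols G)) {d : ℤ} (hd : d < 0) :
    Subsingleton (Coh.HH (LefPen.ciIdeal G).subscheme
      ((Scheme.Modules.pullback (LefPen.ciIdeal G).subschemeι).obj (Twist.twistProjSpace n k d)) 0) := by
  haveI : Subsingleton Γ(Twist.twistProjSpace n k d, ⊤) :=
    (@Equiv.subsingleton _ _ (e0 _).symm.toEquiv
      (Groth.L16.ProjSpace.subsingleton_HH_twist n k d 0 (by omega) (by omega)))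
  have hs := (vanishing_surjective r a ha G hci).2 (by omega) d
  exact @Equiv.subsingleton _ _ (e0 _).toEquiv hs.subsingleton

/-- Functions reduced to the constants. -/
theorem h0_of_surjective {Y : Scheme.{u}} [Y.Over (Spec (CommRingCat.of k))] [Nonempty Y]
    (hsurj : Function.Surjective (Y ↘ Spec (CommRingCat.of k)).appTop) :
    Nonempty (Coh.HH Y (Coh.structureModule Y) 0 ≃ₗ[k] k) := by
  haveI : Nontrivial Γ(Y, ⊤) := by
    obtain ⟨x⟩ := ‹Nonempty Y›
    exact RingHom.domain_nontrivial (Y.presheaf.germ ⊤ x trivial).hom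
  let f := Y ↘ Spec (CommRingCat.of k)
  have hb : Function.Bijective fun c : k => (show Γ(Y, ⊤) from Coh.toGlobal f c) := by
    have he : (fun c : k => (show Γ(Y, ⊤) from Coh.toGlobal f c)) =
        f.appTop ∘ (Scheme.ΓSpecIso (CommRingCat.of k)).inv := rfl
    have h2 := hsurj.comp (ConcreteCategory.bijective_of_isIso (Scheme.ΓSpecIso (CommRingCat.of k)).inv).2
    rw [he]
    exact ⟨RingHom.injective ((Scheme.ΓSpecIso (CommRingCat.of k)).inv ≫ f.appTop).hom, h2⟩
  let u : Coh.HH Y (Coh.structureModule Y) 0 := (e0 _).symm (show Γ(Coh.structureModule Y, ⊤) from (1 : Γ(Y, ⊤)))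
  have hu : ∀ c : k, e0 _ (c • u) = (show Γ(Y, ⊤) from Coh.toGlobal f c) := fun c => by
    rw [e0_smul, AddEquiv.apply_symm_apply]
    exact mul_one (show Γ(Y, ⊤) from Coh.toGlobal f c)
  refine ⟨(LinearEquiv.ofBijective (LinearMap.toSpanSingleton k _ u) ⟨fun a b hab => ?_, fun y => ?_⟩).symm⟩
  · exact hb.1 ((hu a).symm.trans ((congrArg (e0 _) hab).trans (hu b)))
  · obtain ⟨c, hc⟩ := hb.2 (e0 _ y)
    exact ⟨c, (e0 _).injective ((hu c).trans hc)⟩


/-- Complete intersections of positive dimension have one-dimensional spaces of functions. -/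
theorem nonempty_h0_zero (hr : r + 1 ≤ n) (ha : ∀ j, 1 ≤ a j) (G : ∀ j, LefPen.Form n k (a j))
    (hci : IsCI (pols G)) [(LefPen.ciIdeal G).subscheme.Over (Spec (CommRingCat.of k))]
    (hover : (LefPen.ciIdeal G).subscheme ↘ Spec (CommRingCat.of k) =
      (LefPen.ciIdeal G).subschemeι ≫ CohB1.ProjSpace.toSpec n k) :
    Nonempty (Coh.HH (LefPen.ciIdeal G).subscheme (Coh.structureModule (LefPen.ciIdeal G).subscheme) 0 ≃ₗ[k] k) := by
  haveI := nonempty_ci (by omega) ha G
  refine h0_of_surjective ?_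
  haveI := Groth.L16.ProjSpace.isIso_toSpec_appTop (n := n) (R := k)
  rw [hover, Scheme.Hom.comp_appTop]
  exact (surjective_appTop_ciIdeal r a ha G hci (by omega)).comp
    (ConcreteCategory.bijective_of_isIso (CohB1.ProjSpace.toSpec n k).appTop).2

end Groth.L13.HdgCI
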