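import Groth.Agent.L13.HdgCI.Euler

/-!
# Dividing out negative line bundles
-/

set_option autoImplicit false
set_option linter.style.haveILetI false
set_option linter.unusedSectionVars false
set_option backward.isDefEq.respectTransparency false
set_option backward.isDefEq.respectTransparency.types false

universe u

open CategoryTheory CategoryTheory.Limits AlgebraicGeometry
open Groth.L15.PnHodge Groth.L00.Tensor
open Groth.L13.HdgDiv (HasSeq)

noncomputable section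

namespace Groth.L13.HdgCI

section Quot

variable {C : Type*} [Category C] [Abelian C] {L A T G Ω : C} {φ : A ⟶ G} {c : G ⟶ Ω} {w : φ ≫ c = 0}

/-- Dividing a split piece out of a short exact sequence. -/
theorem exists_quot (hS : (ShortComplex.mk φ c w).ShortExact) (a : L ⟶ A) [Mono a] (σ : T ⟶ A) (p : A ⟶ T)
    (h₁ : σ ≫ p = 𝟙 T) (h₂ : a ≫ p = 0) (hext : ∀ {Z : C} (f g : A ⟶ Z), a ≫ f = a ≫ g → σ ≫ f = σ ≫ g → f = g) :
    ∃ (G' : C) (π : G ⟶ G') (ψ : T ⟶ G') (c' : G' ⟶ Ω) (wπ : (a ≫ φ) ≫ π = 0) (wψ : ψ ≫ c' = 0),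
      (ShortComplex.mk (a ≫ φ) π wπ).ShortExact ∧ (ShortComplex.mk ψ c' wψ).ShortExact := by
  haveI : Mono φ := hS.mono_f
  haveI : Epi c := hS.epi_g
  haveI : Mono (a ≫ φ) := mono_comp _ _
  let π := cokernel.π (a ≫ φ)
  have hA : (ShortComplex.mk (a ≫ φ) π (cokernel.condition _)).ShortExact :=
    { exact := ShortComplex.exact_cokernel _, mono_f := inferInstance, epi_g := inferInstance }
  have wc : (a ≫ φ) ≫ c = 0 := by rw [Category.assoc, w, comp_zero]
  let c' : cokernel (a ≫ φ) ⟶ Ω := cokernel.desc _ c wc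
  have hc' : π ≫ c' = c := cokernel.π_desc _ _ _
  have wψ : (σ ≫ φ ≫ π) ≫ c' = 0 := by rw [Category.assoc, Category.assoc, hc', w, comp_zero]
  refine ⟨_, π, σ ≫ φ ≫ π, c', cokernel.condition _, wψ, hA, ?_⟩
  haveI : Epi (π ≫ c') := by rw [hc']; infer_instance
  haveI : Epi c' := epi_of_epi π c'
  haveI : Mono (σ ≫ φ ≫ π) := Preadditive.mono_of_cancel_zero _ fun g hg => by
    obtain ⟨l, hl⟩ := KernelFork.IsLimit.lift' hA.fIsKernel (g ≫ σ ≫ φ) (by simpa [Category.assoc] using hg)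
    have hl' : l ≫ a ≫ φ = g ≫ σ ≫ φ := hl
    have h3 : l ≫ a = g ≫ σ := by rw [← cancel_mono φ, Category.assoc, Category.assoc, hl']
    have := congrArg (· ≫ p) h3
    simp only [Category.assoc, h₂, comp_zero, h₁, Category.comp_id] at this
    exact this.symm
  have hcok : IsColimit (CokernelCofork.ofπ c' wψ) := CokernelCofork.IsColimit.ofπ' _ _ fun {Z} h hh =>
    Classical.indefiniteDescription _ <| by
      have h0 : φ ≫ π ≫ h = 0 := hext _ _ (by
        rw [comp_zero, ← Category.assoc φ π h, ← Category.assoc a, ← Category.assoc a φ π, cokernel.condition,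
          zero_comp]) (by rw [comp_zero]; simpa [Category.assoc] using hh)
      obtain ⟨l, hl⟩ := CokernelCofork.IsColimit.desc' hS.gIsCokernel (π ≫ h) h0
      have hl' : c ≫ l = π ≫ h := hl
      exact ⟨l, by rw [← cancel_epi π, ← Category.assoc, hc', hl']⟩
  exact { exact := ShortComplex.exact_of_g_is_cokernel _ hcok, mono_f := ‹_›, epi_g := ‹_› }

end Quot

variable {k : Type u} [Field k] {N : ℕ} [QuasiSeparated (CohB1.ProjSpace.toSpec N k)]
  {Y : Scheme.{u}} (ι : Y ⟶ CohB1.ProjSpace N k) [Y.Over (Spec (CommRingCat.of k))]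

/-- The cohomology expected of the exterior powers below the middle dimension. -/
def Good (n : ℕ) (G : Y.Modules) : Prop :=
  ∀ (p : ℕ) (E : Y.Modules), ExtPow.IsExtPow p G E →
    (∀ m : ℤ, m < 0 → ∀ i, i + p < n → Subsingleton (Coh.HH Y (CohB1.tensorMod E (TY ι m)) i)) ∧
    (∀ i, i + p < n → i ≠ p → Subsingleton (Coh.HH Y E i)) ∧
    (p + p < n → Nonempty (Coh.HH Y E p ≃ₗ[k] k))

variable {n : ℕ}

theorem good_of_iso {G G' : Y.Modules} (e : G ≅ G') (h : Good ι n G) : Good ι n G' :=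
  fun p E hE => h p E (Groth.L20.ExtPull.isExtPow_congr e.symm hE)

theorem nonempty_TY_zero : Nonempty (TY ι 0 ≅ Coh.structureModule Y) := by
  obtain ⟨z⟩ := T_zero N k
  exact ⟨(Scheme.Modules.pullback ι).mapIso z ≪≫ Groth.L29.LocFree.pullbackUnitIso ι⟩

theorem nonempty_TY_add (a b c : ℤ) (h : a + b = c) :
    Nonempty (CohB1.tensorMod (TY ι a) (TY ι b) ≅ TY ι c) := by
  obtain ⟨e⟩ := T_add N k a b c h
  exact ⟨Groth.L29.DC.PullTensor.pullTensor ι _ _ ≪≫ (Scheme.Modules.pullback ι).mapIso e⟩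

theorem isInvertible_TY (d : ℤ) : PicF.IsInvertible (TY ι d) :=
  Groth.L18.Ample.isInvertible_pullback _ (Groth.L16.ProjTwist.isInvertible_twistProjSpace N k d)

/-- The restricted forms are good. -/
theorem good_restrict (hT : ∀ (d : ℤ) (i : ℕ), i < n → (0 < i ∨ d < 0) → Subsingleton (Coh.HH Y (TY ι d) i))
    (h0 : 1 ≤ n → Nonempty (Coh.HH Y (Coh.structureModule Y) 0 ≃ₗ[k] k)) :
    Good ι n ((Scheme.Modules.pullback ι).obj (Groth.L22.Adjunction.OP N k)) := by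
  intro p E hE
  haveI := isQCoh_of_locFree (locFree_of_rank (rank_omega N k))
  obtain ⟨e⟩ := Groth.L12.ExtSh.nonempty_iso_of_isExtPow
    (Groth.L20.ExtPull.isExtPow_pullback ι (Groth.L12.ExtSh.isExtPow_wedgeMod (Groth.L22.Adjunction.OP N k) p)) hE
  obtain ⟨z⟩ := nonempty_TY_zero ι
  let e₀ : AY ι p 0 ≅ E := tensorIso e z ≪≫ tensorUnitRight E
  refine ⟨fun m hm i hi => ?_, fun i hi hne => ?_, fun hp => ?_⟩
  · exact Groth.L22.EnrSev.subsingleton_of_iso (tensorIso e (Iso.refl _)) i (AY_neg ι hT hm p i (by omega))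
  · exact Groth.L22.EnrSev.subsingleton_of_iso e₀ i (AY_off ι hT p i (by omega) hne)
  · obtain ⟨f⟩ := AY_diag ι hT (h0 (by omega)) p (by omega)
    exact ⟨(hhIso k e₀ p).symm.trans f⟩

/-- Dividing out a negative line bundle preserves goodness. -/
theorem good_quot {S : ShortComplex Y.Modules} (hS : S.ShortExact) {a : ℕ} (ha : 1 ≤ a)
    (e₁ : S.X₁ ≅ TY ι (-(a : ℤ))) (h₂ : FlatMod.IsFinLocFree S.X₂) (h₃ : FlatMod.IsFinLocFree S.X₃)
    (hG : Good ι n S.X₂) : Good ι n S.X₃ := by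
  haveI := isQCoh_of_locFree h₂
  haveI := isQCoh_of_locFree h₃
  intro p
  induction p with
  | zero =>
    intro E hE
    obtain ⟨e⟩ := Groth.L13.HdgDiv.isExtPow_zero_congr (isExtPow_zero' S.X₂) hE
    obtain ⟨g₁, g₂, g₃⟩ := hG 0 _ (isExtPow_zero' S.X₂)
    refine ⟨fun m hm i hi => ?_, fun i hi hne => ?_, fun hp => ?_⟩
    · exact Groth.L22.EnrSev.subsingleton_of_iso (tensorIso e (Iso.refl _)) i (g₁ m hm i hi)
    · exact Groth.L22.EnrSev.subsingleton_of_iso e i (g₂ i hi hne)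
    · exact ⟨(hhIso k e 0).symm.trans (g₃ hp).some⟩
  | succ p ih =>
    intro E hE
    have h := Groth.L13.HdgDiv.exists_extPow_seq_sub hS
      (Groth.L22.CurveDeg.Det.isFinLocFreeOfRank_one_of_isInvertible
        (Groth.L18.Ample.isInvertible_of_iso e₁.symm (isInvertible_TY ι _))) h₃ p hE
      (Groth.L12.ExtSh.isExtPow_wedgeMod S.X₃ p) (Groth.L12.ExtSh.isExtPow_wedgeMod S.X₂ (p + 1))
    obtain ⟨g₁, g₂, g₃⟩ := hG (p + 1) _ (Groth.L12.ExtSh.isExtPow_wedgeMod S.X₂ (p + 1))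
    obtain ⟨f₁, -, -⟩ := ih _ (Groth.L12.ExtSh.isExtPow_wedgeMod S.X₃ p)
    let M := Groth.L12.ExtSh.wedgeMod S.X₂ (p + 1)
    have seq : ∀ m : ℤ, HasSeq (CohB1.tensorMod (Groth.L12.ExtSh.wedgeMod S.X₃ p) (TY ι (m - a)))
        (CohB1.tensorMod M (TY ι m)) (CohB1.tensorMod E (TY ι m)) := fun m => by
      obtain ⟨t⟩ := nonempty_TY_add ι (-(a : ℤ)) m (m - a) (by ring)
      exact (h.tensor (Groth.L21.RR.isFlat_of_isInvertible (isInvertible_TY ι m))).of_iso
        (tensorIso (tensorComm _ _ ≪≫ tensorIso (Iso.refl _) e₁) (Iso.refl _) ≪≫ tensorAssoc _ _ _ ≪≫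
          tensorIso (Iso.refl _) t) (Iso.refl _) (Iso.refl _)
    obtain ⟨z⟩ := nonempty_TY_zero ι
    have seq0 : HasSeq (CohB1.tensorMod (Groth.L12.ExtSh.wedgeMod S.X₃ p) (TY ι (0 - a))) M E :=
      (seq 0).of_iso (Iso.refl _) (tensorIso (Iso.refl _) z ≪≫ tensorUnitRight M)
        (tensorIso (Iso.refl _) z ≪≫ tensorUnitRight E)
    refine ⟨fun m hm i hi => ?_, fun i hi hne => ?_, fun hp => ?_⟩
    · exact (seq m).van_right (g₁ m hm i hi) (f₁ (m - a) (by omega) (i + 1) (by omega))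
    · exact seq0.van_right (g₂ i hi hne) (f₁ (0 - a) (by omega) (i + 1) (by omega))
    · obtain ⟨f, hf, hf'⟩ := seq0.exists_map k (f₁ (0 - a) (by omega) (p + 1) (by omega))
      obtain ⟨g⟩ := g₃ hp
      exact ⟨(LinearEquiv.ofBijective f ⟨hf, hf' (f₁ (0 - a) (by omega) (p + 1 + 1) (by omega))⟩).symm.trans g⟩

/-- Goodness passes along an extension by a sum of negative line bundles. -/
theorem good_of_seq : ∀ (d : ℕ) (a : Fin d → ℕ), (∀ j, 1 ≤ a j) → ∀ (G Ω : Y.Modules)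
    (φ : (∐ fun j : Fin d => TY ι (-(a j : ℤ))) ⟶ G) (c : G ⟶ Ω) (w : φ ≫ c = 0),
    (ShortComplex.mk φ c w).ShortExact → FlatMod.IsFinLocFree G → FlatMod.IsFinLocFree Ω →
    Good ι n G → Good ι n Ω := by
  intro d
  induction d with
  | zero =>
    intro a _ G Ω φ c w hS _ _ hG
    obtain ⟨e⟩ := Groth.L15.PnHodge.isIso_right hS
      ((IsZero.iff_id_eq_zero _).2 (Sigma.hom_ext _ _ fun i => i.elim0))
    exact good_of_iso ι e hG
  | succ d ih =>
    intro a ha G Ω φ c w hS hGf hΩ hG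
    let F := fun j : Fin (d + 1) => TY ι (-(a j : ℤ))
    let F' := fun j : Fin d => TY ι (-(a j.succ : ℤ))
    let σ : ∐ F' ⟶ ∐ F := Sigma.desc fun j => Sigma.ι F j.succ
    let p : ∐ F ⟶ ∐ F' := Sigma.desc (Fin.cases 0 fun j => Sigma.ι F' j)
    have hp0 : Sigma.ι F 0 ≫ p = 0 := (Sigma.ι_desc _ _).trans (Fin.cases_zero)
    have hps : ∀ j : Fin d, Sigma.ι F j.succ ≫ p = Sigma.ι F' j := fun j =>
      (Sigma.ι_desc _ _).trans (Fin.cases_succ _)
    have hσp : σ ≫ p = 𝟙 _ := Sigma.hom_ext _ _ fun j => by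
      rw [Category.comp_id, Sigma.ι_desc_assoc, hps]
    obtain ⟨G', π, ψ, c', wπ, wψ, hA, hB⟩ := exists_quot hS (Sigma.ι F 0) σ p hσp hp0 fun f g e₀ e₁ =>
      Sigma.hom_ext _ _ fun j => Fin.cases e₀ (fun i => by
        have := congrArg (Sigma.ι F' i ≫ ·) e₁
        simpa [σ] using this) j
    have hsum : FlatMod.IsFinLocFree (∐ F') := Groth.L29.DC.isFinLocFree_coprod_fin _ _ fun j =>
      Groth.L20.ResDescent.isFinLocFree_of_isInvertible (isInvertible_TY ι _)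
    have hG' : FlatMod.IsFinLocFree G' := Groth.L12.ExtSh.isFinLocFree_middle hB hsum hΩ
    exact ih (fun j => a j.succ) (fun j => ha _) G' Ω ψ c' wψ hB hG' hΩ
      (good_quot ι hA (ha 0) (Iso.refl _) hGf hG' hG)

end Groth.L13.HdgCI
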