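import Groth.Agent.L15.PnHodge.Main
import Groth.Agent.L13.HdgDiv.Setup
import Groth.Agent.L17.BC.Efface
import Groth.Agent.L18.LocFreeTilde

/-!
# Forms of projective space restricted to a subscheme whose line bundles have no middle cohomology
-/

set_option autoImplicit false
set_option linter.style.haveILetI false
set_option linter.unusedSectionVars false
set_option backward.isDefEq.respectTransparency false
set_option backward.isDefEq.respectTransparency.types false

universe u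

open CategoryTheory CategoryTheory.Limits AlgebraicGeometry
open Groth.L15.PnHodge Groth.L00.Tensor
open Groth.L22.Adjunction (OP)
open Groth.L13.HdgDiv (HasSeq)

noncomputable section

namespace Groth.L13.HdgCI

theorem shortExact_pullback {X X' : Scheme.{u}} {S : ShortComplex X.Modules} (hS : S.ShortExact)
    (h3 : FlatMod.IsFinLocFree S.X₃) (g : X' ⟶ X) : (S.map (Scheme.Modules.pullback g)).ShortExact := by
  refine Groth.L17.BC.Efface.shortExact_pullback hS (fun x => ?_) g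
  haveI := hS.mono_f
  haveI := hS.epi_g
  have hx : (S.map (Groth.L00.Stk.F X x)).ShortExact := hS.map_of_exact _
  haveI := Groth.L18.LFP.free_stalk S.X₃ h3 x
  haveI : Projective (S.map (Groth.L00.Stk.F X x)).X₃ :=
    ModuleCat.projective_of_free (Module.Free.chooseBasis (X.presheaf.stalk x) (S.X₃.presheaf.stalk x))
  exact (hx.splittingOfProjective).isSplitMono_f

variable {k : Type u} [Field k] {N : ℕ} [QuasiSeparated (CohB1.ProjSpace.toSpec N k)]
  {Y : Scheme.{u}} (ι : Y ⟶ CohB1.ProjSpace N k)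

/-- The line bundle `O_Y(d)`. -/
abbrev TY (d : ℤ) : Y.Modules := (Scheme.Modules.pullback ι).obj (T N k d)

/-- The twisted restricted forms. -/
abbrev AY (p : ℕ) (d : ℤ) : Y.Modules :=
  CohB1.tensorMod ((Scheme.Modules.pullback ι).obj (Wp N k p)) (TY ι d)

theorem exists_pullSeq (p : ℕ) (d : ℤ) :
    ∃ S : ShortComplex Y.Modules, S.ShortExact ∧ Nonempty (S.X₁ ≅ AY ι (p + 1) d) ∧
      (∃ c, Nonempty (SumOf S.X₂ (TY ι (d - (p + 1 : ℕ))) c)) ∧ Nonempty (S.X₃ ≅ AY ι p d) := by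
  obtain ⟨S, hS, ⟨e₁⟩, ⟨Z⟩, ⟨e₃⟩⟩ := exists_seq N k p d
  have hp : FlatMod.IsFinLocFree (Om N k p d) :=
    Groth.L29.DC.isFinLocFree_tensor
      (Groth.L12.ExtSh.isFinLocFree_wedgeMod (locFree_of_rank (rank_omega N k)) p)
      (Groth.L20.ResDescent.isFinLocFree_of_isInvertible (Groth.L16.ProjTwist.isInvertible_twistProjSpace N k d))
  have h := shortExact_pullback hS (Groth.L14.ParaF.finLocFree_of_iso e₃.symm hp) ι
  haveI : (Scheme.Modules.pullback ι).Additive :=
    (Scheme.Modules.pullbackPushforwardAdjunction ι).left_adjoint_additive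
  exact ⟨_, h, ⟨(Scheme.Modules.pullback ι).mapIso e₁ ≪≫ (Groth.L29.DC.PullTensor.pullTensor ι _ _).symm⟩,
    ⟨_, nonempty_sumOf_map (Scheme.Modules.pullback ι) Z⟩,
    ⟨(Scheme.Modules.pullback ι).mapIso e₃ ≪≫ (Groth.L29.DC.PullTensor.pullTensor ι _ _).symm⟩⟩

theorem nonempty_AY_zero (d : ℤ) : Nonempty (AY ι 0 d ≅ TY ι d) := by
  obtain ⟨e⟩ := Groth.L12.ExtSh.nonempty_iso_of_isExtPow (Groth.L12.ExtSh.isExtPow_wedgeMod (OP N k) 0)
    (isExtPow_zero' (OP N k))
  exact ⟨tensorIso ((Scheme.Modules.pullback ι).mapIso e ≪≫ Groth.L29.LocFree.pullbackUnitIso ι) (Iso.refl _) ≪≫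
    tensorUnitLeft _⟩

variable {n : ℕ}
  (hT : ∀ (d : ℤ) (i : ℕ), i < n → (0 < i ∨ d < 0) → Subsingleton (Coh.HH Y (TY ι d) i))

include hT in
/-- Negative twists of restricted forms have no cohomology below the dimension. -/
theorem AY_neg {m : ℤ} (hm : m < 0) : ∀ (p i : ℕ), i < n → Subsingleton (Coh.HH Y (AY ι p m) i) := by
  intro p
  induction p with
  | zero =>
    intro i hi
    obtain ⟨e⟩ := nonempty_AY_zero ι m
    exact Groth.L22.EnrSev.subsingleton_of_iso e.symm i (hT m i hi (Or.inr hm))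
  | succ p ih =>
    intro i hi
    obtain ⟨S, hS, ⟨e₁⟩, ⟨c, ⟨Z⟩⟩, ⟨e₃⟩⟩ := exists_pullSeq ι p m
    have h₂ := subsingleton_sum Z i (hT _ i hi (Or.inr (by omega)))
    refine Groth.L22.EnrSev.subsingleton_of_iso e₁ i ?_
    cases i with
    | zero => exact van_left_zero hS h₂
    | succ i => exact van_left hS (Groth.L22.EnrSev.subsingleton_of_iso e₃.symm i (ih i (by omega))) h₂

include hT in
/-- Restricted forms have no cohomology off the diagonal below the dimension. -/
theorem AY_off : ∀ (p i : ℕ), i < n → i ≠ p → Subsingleton (Coh.HH Y (AY ι p 0) i) := by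
  intro p
  induction p with
  | zero =>
    intro i hi hne
    obtain ⟨e⟩ := nonempty_AY_zero ι 0
    exact Groth.L22.EnrSev.subsingleton_of_iso e.symm i (hT 0 i hi (Or.inl (Nat.pos_of_ne_zero hne)))
  | succ p ih =>
    intro i hi hne
    obtain ⟨S, hS, ⟨e₁⟩, ⟨c, ⟨Z⟩⟩, ⟨e₃⟩⟩ := exists_pullSeq ι p 0
    have h₂ := subsingleton_sum Z i (hT _ i hi (Or.inr (by omega)))
    refine Groth.L22.EnrSev.subsingleton_of_iso e₁ i ?_
    cases i with
    | zero => exact van_left_zero hS h₂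
    | succ i => exact van_left hS (Groth.L22.EnrSev.subsingleton_of_iso e₃.symm i (ih i (by omega) (by omega))) h₂

variable [Y.Over (Spec (CommRingCat.of k))]

include hT in
/-- Restricted forms on the diagonal. -/
theorem AY_diag (h0 : Nonempty (Coh.HH Y (Coh.structureModule Y) 0 ≃ₗ[k] k)) :
    ∀ i : ℕ, i < n → Nonempty (Coh.HH Y (AY ι i 0) i ≃ₗ[k] k) := by
  intro i
  induction i with
  | zero =>
    intro _
    obtain ⟨e⟩ := nonempty_AY_zero ι 0
    obtain ⟨z⟩ := T_zero N k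
    obtain ⟨h0⟩ := h0
    exact ⟨(hhIso k (e ≪≫ (Scheme.Modules.pullback ι).mapIso z ≪≫ Groth.L29.LocFree.pullbackUnitIso ι) 0).trans h0⟩
  | succ i ih =>
    intro hi
    obtain ⟨S, hS, ⟨e₁⟩, ⟨c, ⟨Z⟩⟩, ⟨e₃⟩⟩ := exists_pullSeq ι i 0
    have h₂ := fun q (hq : q < n) => subsingleton_sum Z q (hT _ q hq (Or.inr (by omega)))
    obtain ⟨δ⟩ := nonempty_delta_equiv k hS (h₂ i (by omega)) (h₂ (i + 1) hi)
    obtain ⟨e⟩ := ih (by omega)
    exact ⟨((hhIso k e₁ (i + 1)).symm.trans δ.symm).trans ((hhIso k e₃ i).trans e)⟩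

end Groth.L13.HdgCI
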