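import Groth.Agent.L13.HdgCI.Chain
import Groth.Agent.L13.HdgCI.Basic
import Groth.Agent.L05.CIConormal.Main
import Groth.Agent.L22.Adjunction.HodgeSymm
import Groth.Agent.L22.Inter.Fga
import Groth.Agent.L14.DefLift.LocTriv.SmoothRigid
import Groth.Agent.L21.RR.Coh

/-!
# Hodge cohomology of smooth complete intersections
-/

set_option autoImplicit false
set_option linter.style.haveILetI false
set_option linter.unusedSectionVars false
set_option backward.isDefEq.respectTransparency false
set_option backward.isDefEq.respectTransparency.types false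

universe u

open CategoryTheory CategoryTheory.Limits AlgebraicGeometry
open Groth.L15.PnHodge

noncomputable section

namespace Groth.L13.HdgCI

open Groth.L18.CIProj Groth.L18.CIProjRing

variable {k : Type u} [Field k] {n d : ℕ} {a : Fin d → ℕ} (ha : ∀ j, 1 ≤ a j)
  (G : ∀ j : Fin d, LefPen.Form (n + d) k (a j))
  [SmoothOfRelativeDimension n ((LefPen.ciIdeal G).subschemeι ≫ CohB1.ProjSpace.toSpec (n + d) k)]
  [(LefPen.ciIdeal G).subscheme.Over (Spec (CommRingCat.of k))]
  (hover : (LefPen.ciIdeal G).subscheme ↘ Spec (CommRingCat.of k) =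
    (LefPen.ciIdeal G).subschemeι ≫ CohB1.ProjSpace.toSpec (n + d) k)

include ha hover in
/-- The forms of a smooth complete intersection below the middle dimension. -/
theorem good_omega [QuasiSeparated (CohB1.ProjSpace.toSpec (n + d) k)] :
    Good (LefPen.ciIdeal G).subschemeι n (Omega.sheaf
      ((LefPen.ciIdeal G).subschemeι ≫ CohB1.ProjSpace.toSpec (n + d) k)) := by
  let ι := (LefPen.ciIdeal G).subschemeι
  let g := CohB1.ProjSpace.toSpec (n + d) k
  haveI : Smooth (ι ≫ g) := SmoothOfRelativeDimension.smooth n (ι ≫ g)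
  have hdim : topologicalKrullDim ↥(LefPen.ciIdeal G).subscheme ≤ ((n + d - d : ℕ) : WithBot ℕ∞) := by
    rw [Nat.add_sub_cancel]
    exact Groth.L22.Adjunction.topologicalKrullDim_le_relDim (ι ≫ g) n
  have hci := isCI_pols (Nat.le_add_left d n) ha G hdim
  have hT : ∀ (e : ℤ) (i : ℕ), i < n → (0 < i ∨ e < 0) →
      Subsingleton (Coh.HH (LefPen.ciIdeal G).subscheme (TY ι e) i) := by
    intro e i hi h
    rcases Nat.eq_zero_or_pos i with rfl | hpos
    · exact subsingleton_h0_neg (by omega) ha G hci (h.resolve_left (lt_irrefl 0))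
    · exact (vanishing_surjective d a ha G hci).1 e i hpos (by omega)
  have hbase := good_restrict ι hT fun h1 => nonempty_h0_zero (by omega) ha G hci hover
  obtain ⟨φ, c, w, hS⟩ := Groth.L22.Adjunction.exists_seq g ι
  obtain ⟨e⟩ := Groth.L05.CIConormal.nonempty_conormal_ci (Nat.le_add_left d n) ha G hdim
  haveI := hS.mono_f
  have hS' : (ShortComplex.mk (e.inv ≫ φ) c (by rw [Category.assoc, w, comp_zero])).ShortExact :=
    ShortComplex.shortExact_of_iso (ShortComplex.isoMk (S₁ := ShortComplex.mk φ c w) e (Iso.refl _) (Iso.refl _)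
      (by simp) (by simp)) hS
  exact good_of_seq ι d a ha _ _ (e.inv ≫ φ) c _ hS'
    (Groth.L20.DescLocus.isFinLocFree_pullback ι (locFree_of_rank (rank_omega (n + d) k)))
    (Groth.L14.LocTriv.isFinLocFree_omega' (ι ≫ g)) hbase

include ha hover in
/-- Hodge cohomology off the middle and the diagonal, and the diagonal. -/
theorem hodge (j i : ℕ) (L : (LefPen.ciIdeal G).subscheme.Modules)
    (hL : ExtPow.IsExtPow j (Omega.sheaf ((LefPen.ciIdeal G).subschemeι ≫ CohB1.ProjSpace.toSpec (n + d) k)) L)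
    (hijn : i + j ≠ n) :
    (i ≠ j → Subsingleton (Coh.HH (LefPen.ciIdeal G).subscheme L i)) ∧
      (i = j → i ≤ n → Module.finrank k (Coh.HH (LefPen.ciIdeal G).subscheme L i) = 1) := by
  haveI := Groth.L22.PDual.proper (n + d) k
  haveI : QuasiSeparated (CohB1.ProjSpace.toSpec (n + d) k) := inferInstance
  haveI := nonempty_ci (Nat.le_add_left d n) ha G
  have hg := good_omega ha G hover
  haveI : SmoothOfRelativeDimension n ((LefPen.ciIdeal G).subscheme ↘ Spec (CommRingCat.of k)) := by
    rw [hover]; infer_instance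
  have hΩ := Groth.L02.Canon.isFinLocFreeOfRank_omega
    (f := (LefPen.ciIdeal G).subschemeι ≫ CohB1.ProjSpace.toSpec (n + d) k) n
  by_cases hjn : n < j
  · exact ⟨fun _ => Groth.L03.Euler.subsingleton_HH_of_isZero (isZero_wedge hΩ hL hjn) i,
      fun hij hin => absurd hin (by omega)⟩
  haveI : IsProper ((LefPen.ciIdeal G).subscheme ↘ Spec (CommRingCat.of k)) := by rw [hover]; infer_instance
  haveI := Groth.L21.RR.isNoetherian_of_proper (X := (LefPen.ciIdeal G).subscheme) k
  by_cases hin : n < i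
  · exact ⟨fun _ => Groth.L22.Inter.subsingleton_HH_of_dim
      (Groth.L22.Adjunction.topologicalKrullDim_le_relDim
        ((LefPen.ciIdeal G).subscheme ↘ Spec (CommRingCat.of k)) n) L hin, fun _ h => absurd h (by omega)⟩
  rcases lt_or_gt_of_ne hijn with hlt | hgt
  · obtain ⟨-, h₂, h₃⟩ := hg j L hL
    exact ⟨fun hne => h₂ i hlt hne, fun hij _ => by
      subst hij
      rw [(h₃ hlt).some.finrank_eq, Module.finrank_self]⟩
  obtain ⟨L', hL'⟩ : ∃ L', ExtPow.IsExtPow (n - j)
      (Omega.sheaf ((LefPen.ciIdeal G).subschemeι ≫ CohB1.ProjSpace.toSpec (n + d) k)) L' := by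
    haveI := isQCoh_of_locFree (locFree_of_rank hΩ)
    exact ⟨_, Groth.L12.ExtSh.isExtPow_wedgeMod _ _⟩
  have key := Groth.L22.Adjunction.finrank_symm k n (LefPen.ciIdeal G).subscheme (LefPen.ciIdeal G).subschemeι
    hover.symm j i (by omega) (by omega) L L' (by rw [hover]; exact hL) (by rw [hover]; exact hL')
  obtain ⟨-, h₂, h₃⟩ := hg (n - j) L' hL'
  refine ⟨fun hne => ?_, fun hij _ => ?_⟩
  · haveI := h₂ (n - i) (by omega) (by omega)
    haveI : Coh.IsQCoh (Omega.sheaf ((LefPen.ciIdeal G).subschemeι ≫ CohB1.ProjSpace.toSpec (n + d) k)) :=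
      isQCoh_of_locFree (locFree_of_rank hΩ)
    haveI : Module.Finite k (Coh.HH (LefPen.ciIdeal G).subscheme L i) := Groth.L21.RR.finite_HH' k
      (Groth.L16.NegPow.isCoh_of_isFinLocFree
        (Groth.L12.ExtSh.isFinLocFree_of_isExtPow (locFree_of_rank hΩ) hL)) i
    rw [Module.finrank_zero_of_subsingleton (R := k) (M := Coh.HH (LefPen.ciIdeal G).subscheme L' (n - i))] at key
    exact Module.finrank_zero_iff.1 key
  · subst hij
    rw [key, (h₃ (by omega)).some.finrank_eq, Module.finrank_self]

end Groth.L13.HdgCI
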